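import Mathlib

set_option autoImplicit false

universe u v w

namespace Groth.Agent.H8.WDesc

open TensorProduct

theorem flat_equalizer {A : Type u} {B : Type v} {C : Type w} [CommRing A] [CommRing B] [CommRing C]
    [Algebra A B] [Algebra A C]
    (ψ₁ ψ₂ : B →ₐ[A] C) (hinj : Function.Injective (algebraMap A B))
    (hex : ∀ b, ψ₁ b = ψ₂ b → b ∈ Set.range (algebraMap A B))
    (M : Type*) [AddCommGroup M] [Module A M] [Module.Flat A M] :
    Function.Injective (fun m : M => m ⊗ₜ[A] (1 : B)) ∧
      ∀ x : M ⊗[A] B, LinearMap.lTensor M ψ₁.toLinearMap x = LinearMap.lTensor M ψ₂.toLinearMap x →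
        x ∈ Set.range (fun m : M => m ⊗ₜ[A] (1 : B)) := by
  set j : A →ₗ[A] B := Algebra.linearMap A B with hj
  set δ : B →ₗ[A] C := ψ₁.toLinearMap - ψ₂.toLinearMap with hδ
  have hjinj : Function.Injective j := hinj
  have hexact : Function.Exact j δ := by
    intro b
    constructor
    · intro hb
      rw [hδ, LinearMap.sub_apply, sub_eq_zero] at hb
      exact hex b hb
    · rintro ⟨a, rfl⟩
      rw [hδ, LinearMap.sub_apply, sub_eq_zero]
      show ψ₁ (algebraMap A B a) = ψ₂ (algebraMap A B a)
      rw [AlgHom.commutes, AlgHom.commutes]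
  have h1 : Function.Injective (LinearMap.lTensor M j) :=
    Module.Flat.lTensor_preserves_injective_linearMap j hjinj
  have h2 : Function.Exact (LinearMap.lTensor M j) (LinearMap.lTensor M δ) :=
    Module.Flat.lTensor_exact M hexact
  have h3 : ∀ m : M, m ⊗ₜ[A] (1 : B) = LinearMap.lTensor M j ((TensorProduct.rid A M).symm m) := by
    intro m
    rw [TensorProduct.rid_symm_apply, LinearMap.lTensor_tmul, hj, Algebra.linearMap_apply, map_one]
  constructor
  · intro m m' hmm
    simp only at hmm
    rw [h3, h3] at hmm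
    exact (TensorProduct.rid A M).symm.injective (h1 hmm)
  · intro x hx
    have h4 : LinearMap.lTensor M δ x = 0 := by
      rw [hδ, LinearMap.lTensor_sub, LinearMap.sub_apply, hx, sub_self]
    obtain ⟨y, hy⟩ := (h2 x).mp h4
    refine ⟨TensorProduct.rid A M y, ?_⟩
    simp only
    rw [h3, LinearEquiv.symm_apply_apply, hy]

end Groth.Agent.H8.WDesc
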